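import Groth.Agent.Lib.FanoGen13.Gen

/-! # General hypersurfaces containing a small linear subspace are smooth -/

set_option autoImplicit false
set_option linter.style.haveILetI false
universe u

open MvPolynomial

noncomputable section

namespace Groth.Agent.FanoSmooth13

variable {k : Type u} [Field k] {n : ℕ}

/-- The derivative in the direction `w`. -/
def dir (w : Fin (n + 1) → k) : MvPolynomial (Fin (n + 1)) k →ₗ[k] MvPolynomial (Fin (n + 1)) k :=
  ∑ q, w q • (pderiv q).toLinearMap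

theorem dir_mul (w : Fin (n + 1) → k) (P Q : MvPolynomial (Fin (n + 1)) k) :
    dir w (P * Q) = P * dir w Q + Q * dir w P := by
  simp only [dir, LinearMap.sum_apply, LinearMap.smul_apply, Derivation.coeFn_coe, Derivation.leibniz, smul_eq_mul,
    smul_add, Finset.sum_add_distrib, Finset.mul_sum, mul_smul_comm]

/-- The linear form of a functional. -/
def lin (l : (Fin (n + 1) → k) →ₗ[k] k) : MvPolynomial (Fin (n + 1)) k :=
  ∑ q, MvPolynomial.C (l (Pi.single q 1)) * X q

theorem lin_homog (l : (Fin (n + 1) → k) →ₗ[k] k) : (lin l).IsHomogeneous 1 :=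
  IsHomogeneous.sum _ _ _ fun q _ => (isHomogeneous_X _ q).C_mul _

theorem eval_lin (l : (Fin (n + 1) → k) →ₗ[k] k) (u : Fin (n + 1) → k) : eval u (lin l) = l u := by
  conv_rhs => rw [pi_eq_sum_univ' u, map_sum]
  simp only [lin, map_sum, map_mul, eval_C, eval_X, map_smul, smul_eq_mul]
  exact Finset.sum_congr rfl fun q _ => mul_comm _ _

theorem aeval_lin {B : Type u} [CommRing B] [Algebra k B] (l : (Fin (n + 1) → k) →ₗ[k] k) (v : Fin (n + 1) → B) :
    aeval v (lin l) = ∑ q, l (Pi.single q 1) • v q := by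
  simp [lin, Algebra.smul_def]

theorem dir_lin (w : Fin (n + 1) → k) (l : (Fin (n + 1) → k) →ₗ[k] k) : dir w (lin l) = MvPolynomial.C (l w) := by
  classical
  rw [← eval_lin l w]
  simp only [dir, lin, LinearMap.sum_apply, LinearMap.smul_apply, Derivation.coeFn_coe, map_sum, pderiv_C_mul,
    pderiv_X, map_mul, eval_C, eval_X]
  refine Finset.sum_congr rfl fun q _ => ?_
  rw [Finset.sum_eq_single q (fun q' _ hne => by simp [Ne.symm hne]) (by simp)]
  simp [mul_comm, smul_eq_C_mul]

theorem dir_lin_pow (w : Fin (n + 1) → k) (l : (Fin (n + 1) → k) →ₗ[k] k) (h : l w = 0) :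
    ∀ j : ℕ, dir w (lin l ^ j) = 0
  | 0 => by simp [dir]
  | j + 1 => by rw [pow_succ, dir_mul, dir_lin_pow w l h j, dir_lin, h, map_zero, mul_zero, mul_zero, add_zero]

theorem eval_smul_homog {P : MvPolynomial (Fin (n + 1)) k} {e : ℕ} (hP : P.IsHomogeneous e) (c : k)
    (v : Fin (n + 1) → k) : eval (c • v) P = c ^ e * eval v P := by
  rw [eval_eq, eval_eq, Finset.mul_sum]
  refine Finset.sum_congr rfl fun x hx => ?_
  simp only [Pi.smul_apply, smul_eq_mul, mul_pow, Finset.prod_mul_distrib, Finset.prod_pow_eq_pow_sum]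
  have hdeg : ∑ q ∈ x.support, x q = e := by
    by_contra hne
    exact mem_support_iff.1 hx (hP.coeff_eq_zero hne)
  rw [hdeg]
  ring

variable {d : ℕ} {V : Type u} [AddCommMonoid V] [Module k V] {N : ℕ}

/-- The condition matrix of a family of linear conditions on a space of forms. -/
theorem exists_count_forms {B : Type u} [CommRing B] [Algebra k B] [Algebra.FiniteType k B] {s e : ℕ} (he : e < s)
    (hdim : ringKrullDim B ≤ e) (b : Module.Basis (Fin N) k V) (cnd : Fin s → V →ₗ[k] B)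
    (hsurj : ∀ o, Pi.single o 1 ∈ Submodule.span B (Set.range fun P : V => fun o' => cnd o' P)) :
    ∃ G : MvPolynomial (Fin N) k, G ≠ 0 ∧ ∀ (p : B →ₐ[k] k) (P : V),
      (∀ o, p (cnd o P) = 0) → eval (b.equivFun P) G = 0 := by
  classical
  have hs : Function.Surjective (Fintype.linearCombination B fun t o => cnd o (b t)) := by
    rw [← LinearMap.range_eq_top, eq_top_iff]
    intro v _
    rw [pi_eq_sum_univ' v]
    refine Submodule.sum_mem _ fun o _ => Submodule.smul_mem _ _ (Submodule.span_le.2 ?_ (hsurj o))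
    rintro _ ⟨P, rfl⟩
    refine LinearMap.mem_range.2 ⟨fun t => algebraMap k B (b.equivFun P t), funext fun o' => ?_⟩
    simp only [Fintype.linearCombination_apply, Finset.sum_apply, Pi.smul_apply, smul_eq_mul]
    conv_rhs => rw [← b.sum_equivFun P, map_sum]
    exact Finset.sum_congr rfl fun t _ => by rw [map_smul, Algebra.smul_def]
  obtain ⟨G, hG, hG'⟩ := LefPen13.exists_count (k := k) he hdim _ hs
  refine ⟨G, hG, fun p P hP => hG' p _ fun o => ?_⟩
  rw [← hP o]
  conv_rhs => rw [← b.sum_equivFun P, map_sum, map_sum]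
  exact Finset.sum_congr rfl fun t _ => by rw [map_smul, map_smul, smul_eq_mul]

/-- The universal point of a chart. -/
def pt {ι : Type} (w : ι → Fin (n + 1) → k) (T : Type) [Fintype T] (f : T → ι) (i₀ : ι) (q : Fin (n + 1)) :
    MvPolynomial T k :=
  MvPolynomial.C (w i₀ q) + ∑ t, MvPolynomial.C (w (f t) q) * X t

theorem aeval_pt_lin {ι : Type} (w : ι → Fin (n + 1) → k) {T : Type} [Fintype T] (f : T → ι) (i₀ : ι)
    (l : (Fin (n + 1) → k) →ₗ[k] k) :
    aeval (pt w T f i₀) (lin l) = MvPolynomial.C (l (w i₀)) + ∑ t, MvPolynomial.C (l (w (f t))) * X t := by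
  have e : ∀ x : Fin (n + 1) → k, l x = ∑ q, l (Pi.single q 1) * x q := fun x => by
    conv_lhs => rw [pi_eq_sum_univ' x, map_sum]
    exact Finset.sum_congr rfl fun q _ => by rw [map_smul, smul_eq_mul, mul_comm]
  simp only [aeval_lin, pt, Algebra.smul_def, MvPolynomial.algebraMap_eq, mul_add, Finset.sum_add_distrib,
    Finset.mul_sum, ← mul_assoc, ← map_mul]
  rw [Finset.sum_comm]
  congr 1
  · rw [← map_sum, ← e]
  · refine Finset.sum_congr rfl fun t _ => ?_
    rw [← Finset.sum_mul, ← map_sum, ← e]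

theorem aeval_aeval_pt {ι : Type} (w : ι → Fin (n + 1) → k) {T : Type} [Fintype T] (f : T → ι) (i₀ : ι)
    (a : T → k) (Q : MvPolynomial (Fin (n + 1)) k) :
    aeval a (aeval (pt w T f i₀) Q) = eval (w i₀ + ∑ t, a t • w (f t)) Q := by
  show aeval a (aeval _ Q) = aeval (w i₀ + ∑ t, a t • w (f t)) Q
  rw [← AlgHom.comp_apply, comp_aeval]
  congr 2
  funext q
  simp [pt, mul_comm]

variable {r s : ℕ} (w : Module.Basis (Fin r ⊕ Fin s) k (Fin (n + 1) → k)) (W : Submodule k (LefPen.Form n k d))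

theorem prod_mem (hd : 1 ≤ d) (i₀ j : Fin r ⊕ Fin s) :
    (lin (w.coord i₀) ^ (d - 1) * lin (w.coord j)) ∈ CohB1.polyGrading n k d := by
  refine (mem_homogeneousSubmodule _ _).2 ?_
  have := (((lin_homog (w.coord i₀)).pow (d - 1)).mul (lin_homog (w.coord j)))
  rwa [one_mul, Nat.sub_add_cancel hd] at this

theorem eval_prod (i₀ j : Fin r ⊕ Fin s) (u : Fin (n + 1) → k) :
    eval u (lin (w.coord i₀) ^ (d - 1) * lin (w.coord j)) = w.coord i₀ u ^ (d - 1) * w.coord j u := by
  simp [eval_lin]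

section Conditions

variable {B : Type u} [CommRing B] [Algebra k B] (v : Fin (n + 1) → B)

/-- The value at a universal point. -/
def evalAt : W →ₗ[k] B := (aeval v).toLinearMap ∘ₗ (Submodule.subtype _) ∘ₗ W.subtype

/-- The derivative at a universal point. -/
def dirAt (x : Fin (n + 1) → k) : W →ₗ[k] B :=
  (aeval v).toLinearMap ∘ₗ dir x ∘ₗ (Submodule.subtype _) ∘ₗ W.subtype

theorem dirAt_prod (hd : 1 ≤ d) (i₀ j : Fin r ⊕ Fin s)
    (hm : (⟨_, prod_mem w hd i₀ j⟩ : LefPen.Form n k d) ∈ W) (x : Fin (n + 1) → k) (hx : w.coord i₀ x = 0)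
    (h1 : aeval v (lin (w.coord i₀)) = 1) :
    dirAt W v x ⟨_, hm⟩ = algebraMap k B (w.coord j x) := by
  show aeval v (dir x (lin (w.coord i₀) ^ (d - 1) * lin (w.coord j))) = _
  rw [dir_mul, dir_lin_pow _ _ hx, mul_zero, add_zero, map_mul, map_pow, h1, one_pow, one_mul, dir_lin, aeval_C]

theorem evalAt_prod (hd : 1 ≤ d) (i₀ j : Fin r ⊕ Fin s)
    (hm : (⟨_, prod_mem w hd i₀ j⟩ : LefPen.Form n k d) ∈ W) (h1 : aeval v (lin (w.coord i₀)) = 1) :
    evalAt W v ⟨_, hm⟩ = aeval v (lin (w.coord j)) := by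
  show aeval v (lin (w.coord i₀) ^ (d - 1) * lin (w.coord j)) = _
  rw [map_mul, map_pow, h1, one_pow, one_mul]

/-- The conditions away from the subspace. -/
def offCond (i₀ : Fin r ⊕ Fin s) : Option {j : Fin r ⊕ Fin s // j ≠ i₀} → W →ₗ[k] B
  | none => evalAt W v
  | some t => dirAt W v (w t.1)

theorem span_off (hd : 2 ≤ d) (i : Fin s)
    (hW : ∀ G : LefPen.Form n k d, (∀ u, (∀ i, w.coord (Sum.inr i) u = 0) → eval u G.1 = 0) → G ∈ W)
    (h1 : aeval v (lin (w.coord (Sum.inr i))) = 1) {S : ℕ}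
    (eo : Fin S ≃ Option {j : Fin r ⊕ Fin s // j ≠ Sum.inr i}) (o : Fin S) :
    Pi.single o 1 ∈ Submodule.span B (Set.range fun P : W => fun o' => offCond w W v _ (eo o') P) := by
  classical
  have hm : ∀ j, (⟨_, prod_mem w (d := d) (by omega) (Sum.inr i) j⟩ : LefPen.Form n k d) ∈ W := fun j => hW _ fun u hu => by
    show eval u (lin (w.coord (Sum.inr i)) ^ (d - 1) * lin (w.coord j)) = 0
    rw [eval_prod, hu, zero_pow (by omega), zero_mul]
  obtain ⟨vec, hvec, hvec0⟩ : ∃ vec : (Fin r ⊕ Fin s) → Fin S → B,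
      (∀ j, vec j ∈ Submodule.span B (Set.range fun P : W => fun o' => offCond w W v _ (eo o') P)) ∧
        ∀ j o', vec j o' = (eo o').elim (aeval v (lin (w.coord j))) fun t => if t.1 = j then 1 else 0 := by
    refine ⟨fun j o' => offCond w W v _ (eo o') ⟨_, hm j⟩, fun j => Submodule.subset_span ⟨_, rfl⟩, fun j o' => ?_⟩
    rcases ho : eo o' with _ | t
    · simp only [ho, Option.elim_none]; exact evalAt_prod w W v (by omega) (Sum.inr i) j (hm j) h1
    · simp only [ho, Option.elim_some]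
      refine (dirAt_prod w W v (by omega) (Sum.inr i) j (hm j) _ ?_ h1).trans ?_
      · simp [Finsupp.single_eq_of_ne t.2.symm]
      · simp [Finsupp.single_apply]
  have e0 : vec (Sum.inr i) = Pi.single (eo.symm none) 1 := funext fun o' => by
    rw [hvec0, Pi.single_apply]
    rcases ho : eo o' with _ | t
    · rw [if_pos (by rw [← ho, Equiv.symm_apply_apply])]
      exact h1
    · rw [if_neg fun e => by rw [e, Equiv.apply_symm_apply] at ho; simp at ho]
      simp [t.2]
  rcases ho : eo o with _ | t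
  · rw [show o = eo.symm none by rw [← ho, Equiv.symm_apply_apply], ← e0]
    exact hvec _
  · have hv : vec t.1 - aeval v (lin (w.coord t.1)) • vec (Sum.inr i) = Pi.single o 1 := by
      funext o'
      simp only [Pi.sub_apply, Pi.smul_apply, hvec0, Pi.single_apply, smul_eq_mul]
      rcases ho' : eo o' with _ | t'
      · rw [if_neg fun e => by rw [e, ho] at ho'; simp at ho']
        simp [h1]
      · simp only [Option.elim_some, if_neg t'.2, mul_zero, sub_zero]
        refine if_congr ⟨fun e => eo.injective ?_, fun e => ?_⟩ rfl rfl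
        · rw [ho', ho, Subtype.ext e]
        · rw [e, ho] at ho'
          exact congrArg Subtype.val (Option.some.inj ho').symm
    rw [← hv]
    exact Submodule.sub_mem _ (hvec _) (Submodule.smul_mem _ _ (hvec _))

theorem span_on (hd : 2 ≤ d) (i : Fin r)
    (hW : ∀ G : LefPen.Form n k d, (∀ u, (∀ i, w.coord (Sum.inr i) u = 0) → eval u G.1 = 0) → G ∈ W)
    (h1 : aeval v (lin (w.coord (Sum.inl i))) = 1) (o : Fin s) :
    Pi.single o 1 ∈ Submodule.span B (Set.range fun P : W => fun o' => dirAt W v (w (Sum.inr o')) P) := by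
  classical
  have hm : (⟨_, prod_mem w (d := d) (by omega) (Sum.inl i) (Sum.inr o)⟩ : LefPen.Form n k d) ∈ W := hW _ fun u hu => by
    show eval u (lin (w.coord (Sum.inl i)) ^ (d - 1) * lin (w.coord (Sum.inr o))) = 0
    rw [eval_prod, hu, mul_zero]
  refine Submodule.subset_span ⟨⟨_, hm⟩, funext fun o' => ?_⟩
  refine (dirAt_prod w W v (by omega) _ _ hm _ (by simp) h1).trans ?_
  simp [Finsupp.single_apply, Pi.single_apply]

end Conditions

theorem exists_off (hrs : r + s = n + 1) (hd : 2 ≤ d)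
    (hW : ∀ G : LefPen.Form n k d, (∀ u, (∀ i, w.coord (Sum.inr i) u = 0) → eval u G.1 = 0) → G ∈ W)
    (b : Module.Basis (Fin N) k W) (i : Fin s) :
    ∃ G : MvPolynomial (Fin N) k, G ≠ 0 ∧ ∀ (a : {j : Fin r ⊕ Fin s // j ≠ Sum.inr i} → k) (P : W),
      eval (w (Sum.inr i) + ∑ t, a t • w t.1) P.1.1 = 0 →
      (∀ j, eval (w (Sum.inr i) + ∑ t, a t • w t.1) (dir (w j) P.1.1) = 0) → eval (b.equivFun P) G = 0 := by
  classical
  have hT : Fintype.card {j : Fin r ⊕ Fin s // j ≠ Sum.inr i} = n := by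
    rw [Fintype.card_subtype_compl, Fintype.card_subtype_eq, Fintype.card_sum, Fintype.card_fin, Fintype.card_fin]
    omega
  let eo : Fin (n + 1) ≃ Option {j : Fin r ⊕ Fin s // j ≠ Sum.inr i} :=
    (Fintype.equivFinOfCardEq (by rw [Fintype.card_option, hT])).symm
  obtain ⟨v, hv⟩ : ∃ v, v = pt (⇑w) {j : Fin r ⊕ Fin s // j ≠ Sum.inr i} Subtype.val (Sum.inr i) := ⟨_, rfl⟩
  have h1 : aeval v (lin (w.coord (Sum.inr i))) = (1 : MvPolynomial {j : Fin r ⊕ Fin s // j ≠ Sum.inr i} k) := by
    rw [hv, aeval_pt_lin, Finset.sum_eq_zero fun t _ => by simp [Finsupp.single_eq_of_ne t.2.symm]]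
    simp
  obtain ⟨G, hG, hG'⟩ := exists_count_forms (k := k) (V := W) (e := n) (s := n + 1) (Nat.lt_succ_self n)
    (by rw [MvPolynomial.ringKrullDim_of_isNoetherianRing, ringKrullDim_eq_zero_of_field, zero_add,
      Nat.card_eq_fintype_card, hT]) b (fun o => offCond w W v (Sum.inr i) (eo o)) (span_off w W v hd i hW h1 eo)
  refine ⟨G, hG, fun a P h0 hd' => hG' (aeval a) P fun o => ?_⟩
  subst hv
  rcases ho : eo o with _ | t
  · exact (aeval_aeval_pt (⇑w) Subtype.val (Sum.inr i) a _).trans h0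
  · exact (aeval_aeval_pt (⇑w) Subtype.val (Sum.inr i) a _).trans (hd' t.1)

theorem exists_on (hr : r ≤ s) (hd : 2 ≤ d)
    (hW : ∀ G : LefPen.Form n k d, (∀ u, (∀ i, w.coord (Sum.inr i) u = 0) → eval u G.1 = 0) → G ∈ W)
    (b : Module.Basis (Fin N) k W) (i : Fin r) :
    ∃ G : MvPolynomial (Fin N) k, G ≠ 0 ∧ ∀ (a : {j : Fin r // j ≠ i} → k) (P : W),
      (∀ j, eval (w (Sum.inl i) + ∑ t, a t • w (Sum.inl t.1)) (dir (w j) P.1.1) = 0) → eval (b.equivFun P) G = 0 := by
  classical
  have hT : Fintype.card {j : Fin r // j ≠ i} = r - 1 := by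
    rw [Fintype.card_subtype_compl, Fintype.card_subtype_eq, Fintype.card_fin]
  obtain ⟨v, hv⟩ : ∃ v, v = pt (⇑w) {j : Fin r // j ≠ i} (fun t => Sum.inl t.1) (Sum.inl i) := ⟨_, rfl⟩
  have h1 : aeval v (lin (w.coord (Sum.inl i))) = (1 : MvPolynomial {j : Fin r // j ≠ i} k) := by
    rw [hv, aeval_pt_lin, Finset.sum_eq_zero fun t _ => by simp [Finsupp.single_eq_of_ne, t.2.symm]]
    simp
  obtain ⟨G, hG, hG'⟩ := exists_count_forms (k := k) (V := W) (e := r - 1) (s := s)
    (by have := i.2; omega)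
    (by rw [MvPolynomial.ringKrullDim_of_isNoetherianRing, ringKrullDim_eq_zero_of_field, zero_add,
      Nat.card_eq_fintype_card, hT]) b (fun o => dirAt W v (w (Sum.inr o))) (span_on w W v hd i hW h1)
  subst hv
  exact ⟨G, hG, fun a P hd' => hG' (aeval a) P fun o =>
    (aeval_aeval_pt (⇑w) (fun t : {j : Fin r // j ≠ i} => Sum.inl t.1) (Sum.inl i) a _).trans (hd' (Sum.inr o))⟩

/-- A general form vanishing on a subspace spanned by part of a basis is smooth. -/
theorem exists_smooth (hrs : r + s = n + 1) (hr : r ≤ s) (hd : 2 ≤ d)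
    (hW : ∀ G : LefPen.Form n k d, (∀ u, (∀ i, w.coord (Sum.inr i) u = 0) → eval u G.1 = 0) → G ∈ W)
    (b : Module.Basis (Fin N) k W) :
    ∃ G : MvPolynomial (Fin N) k, G ≠ 0 ∧ ∀ P : W, eval (b.equivFun P) G ≠ 0 → ∀ v : Fin (n + 1) → k, v ≠ 0 →
      eval v P.1.1 = 0 → ∃ i, eval v (pderiv i P.1.1) ≠ 0 := by
  classical
  choose GA hGA hGA' using exists_off w W hrs hd hW b
  choose GB hGB hGB' using exists_on w W hr hd hW b
  refine ⟨(∏ i, GA i) * ∏ i, GB i, mul_ne_zero (Finset.prod_ne_zero_iff.2 fun i _ => hGA i)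
    (Finset.prod_ne_zero_iff.2 fun i _ => hGB i), fun P hP v hv hv0 => ?_⟩
  by_contra! hsing
  simp only [map_mul, map_prod, mul_ne_zero_iff, Finset.prod_ne_zero_iff, Finset.mem_univ, forall_const] at hP
  have hhom : P.1.1.IsHomogeneous d := (mem_homogeneousSubmodule _ _).1 P.1.2
  have hdir : ∀ (c : k) (x : Fin (n + 1) → k), eval (c • v) (dir x P.1.1) = 0 := fun c x => by
    simp only [dir, LinearMap.sum_apply, LinearMap.smul_apply, Derivation.coeFn_coe, map_sum, smul_eval]
    exact Finset.sum_eq_zero fun q _ => by rw [eval_smul_homog hhom.pderiv, hsing q, mul_zero, mul_zero]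
  have hsplit := w.sum_repr v
  rw [Fintype.sum_sum_type] at hsplit
  by_cases hA0 : ∃ i, w.coord (Sum.inr i) v ≠ 0
  · obtain ⟨i, hi⟩ := hA0
    let c := (w.coord (Sum.inr i) v)⁻¹
    refine hP.1 i (hGA' i (fun t => w.coord t.1 (c • v)) P ?_ fun j => ?_)
    all_goals
      have e : w (Sum.inr i) + ∑ t : {j : Fin r ⊕ Fin s // j ≠ Sum.inr i}, w.coord t.1 (c • v) • w t.1 = c • v := by
        conv_rhs => rw [← w.sum_repr (c • v)]
        rw [← Finset.add_sum_erase _ _ (Finset.mem_univ (Sum.inr i : Fin r ⊕ Fin s))]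
        congr 1
        · rw [show w.repr (c • v) (Sum.inr i) = 1 from ?_, one_smul]
          rw [map_smul, Finsupp.smul_apply, smul_eq_mul]
          exact inv_mul_cancel₀ hi
        · exact (Finset.sum_subtype (p := fun j => j ≠ Sum.inr i) (Finset.univ.erase (Sum.inr i : Fin r ⊕ Fin s))
            (fun x => by simp) (fun j => w.repr (c • v) j • w j)).symm
      rw [e]
    · rw [eval_smul_homog hhom, hv0, mul_zero]
    · exact hdir _ _
  · push Not at hA0
    obtain ⟨i, hi⟩ : ∃ i, w.coord (Sum.inl i) v ≠ 0 := by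
      by_contra! hc
      refine hv (w.repr.injective (Finsupp.ext fun j => ?_))
      rw [map_zero]
      rcases j with j | j
      · exact hc j
      · exact hA0 j
    let c := (w.coord (Sum.inl i) v)⁻¹
    refine hP.2 i (hGB' i (fun t => w.coord (Sum.inl t.1) (c • v)) P fun j => ?_)
    have e : w (Sum.inl i) + ∑ t : {j : Fin r // j ≠ i}, w.coord (Sum.inl t.1) (c • v) • w (Sum.inl t.1) = c • v := by
      conv_rhs => rw [← w.sum_repr (c • v), Fintype.sum_sum_type,
        Finset.sum_eq_zero (f := fun o : Fin s => w.repr (c • v) (Sum.inr o) • w (Sum.inr o)) fun o _ => by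
          rw [map_smul, Finsupp.smul_apply, show w.repr v (Sum.inr o) = 0 from hA0 o, smul_zero, zero_smul],
        add_zero, ← Finset.add_sum_erase _ _ (Finset.mem_univ i)]
      congr 1
      · rw [show w.repr (c • v) (Sum.inl i) = 1 from ?_, one_smul]
        rw [map_smul, Finsupp.smul_apply, smul_eq_mul]
        exact inv_mul_cancel₀ hi
      · exact (Finset.sum_subtype (Finset.univ.erase i) (by simp) (fun t : Fin r => w.repr (c • v) (Sum.inl t) • w (Sum.inl t))).symm
    rw [e]
    exact hdir _ _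

end Groth.Agent.FanoSmooth13

namespace Groth.Agent.FanoSmooth13

variable {k : Type u} [Field k] [Infinite k] {n d : ℕ}

/-- The general form containing a small subspace is smooth. -/
theorem smooth_containing (hd : 2 ≤ d) (U : Submodule k (Fin (n + 1) → k)) (hU : 2 * Module.finrank k ↥U ≤ n + 1)
    (W : Submodule k (LefPen.Form n k d))
    (hW : ∀ G : LefPen.Form n k d, G ∈ W ↔ ∀ u ∈ U, MvPolynomial.eval u G.1 = 0) :
    LefPen.IsGeneric k {G : ↥W | ∀ v : Fin (n + 1) → k, v ≠ 0 → MvPolynomial.eval v G.1.1 = 0 →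
      ∃ i : Fin (n + 1), MvPolynomial.eval v (MvPolynomial.pderiv i G.1.1) ≠ 0} := by
  classical
  obtain ⟨U', hU'⟩ := Submodule.exists_isCompl U
  have hsum : Module.finrank k U + Module.finrank k U' = n + 1 := by
    rw [Submodule.finrank_add_eq_of_isCompl hU', Module.finrank_fin_fun]
  let w : Module.Basis (Fin (Module.finrank k U) ⊕ Fin (Module.finrank k U')) k (Fin (n + 1) → k) :=
    ((Module.finBasis k U).prod (Module.finBasis k U')).map (Submodule.prodEquivOfIsCompl U U' hU')
  have hcoord : ∀ u ∈ U, ∀ i, w.coord (Sum.inr i) u = 0 := fun u hu i => by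
    simp [w, Submodule.prodEquivOfIsCompl_symm_apply_left U U' hU' ⟨u, hu⟩]
  haveI : Module.Finite k (LefPen.Form n k d) := (Groth.Agent.LefPen22.finrank_form k n d).2
  haveI : Module.Free k W := Module.Free.of_divisionRing k W
  let b := Module.finBasis k W
  obtain ⟨G, hG, hG'⟩ := exists_smooth w W hsum (by omega) hd
    (fun G hG => (hW G).2 fun u hu => hG u (hcoord u hu)) b
  refine ⟨fun P => eval (b.equivFun P) G, ?_, ?_, fun P hP => hG' P hP⟩
  · show _ ∈ Algebra.adjoin k _
    clear hG hG'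
    induction G using MvPolynomial.induction_on with
    | C a =>
      simp only [eval_C]
      exact Subalgebra.algebraMap_mem _ a
    | add p q hp hq =>
      simp only [map_add]
      exact add_mem hp hq
    | mul_X p e hp =>
      simp only [map_mul, eval_X]
      exact mul_mem hp (Algebra.subset_adjoin ⟨b.coord e, funext fun _ => rfl⟩)
  · by_contra! h0
    refine hG (MvPolynomial.funext fun x => ?_)
    rw [map_zero, ← b.equivFun.apply_symm_apply x]
    exact h0 _

end Groth.Agent.FanoSmooth13
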